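import Groth.Agent.Lib.Helper28.Milnor.Rel

/-!
# Relative Milnor squares: `CommRingCat` formulation
-/

set_option autoImplicit false
universe u
open CategoryTheory Limits

namespace Groth.Agent.Lib.Helper28.Milnor

variable {R A B A₀ RT AU BV C : CommRingCat.{u}}
  (α : R ⟶ A) (β : R ⟶ B) (π : A ⟶ A₀) (φ : B ⟶ A₀)
  (α' : RT ⟶ AU) (β' : RT ⟶ BV) (π' : AU ⟶ C) (φ' : BV ⟶ C)
  (uR : R ⟶ RT) (uA : A ⟶ AU) (uB : B ⟶ BV) (u₀ : A₀ ⟶ C)

/-- **Gluing finite étale algebras over a fibre square of rings.** -/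
theorem finite_etale_of_fibreSquares
    (hA : α ≫ uA = uR ≫ α') (hB : β ≫ uB = uR ≫ β')
    (hπ : π ≫ u₀ = uA ≫ π') (hφ : φ ≫ u₀ = uB ≫ φ')
    (hsq : α ≫ π = β ≫ φ) (hsq' : α' ≫ π' = β' ≫ φ')
    (hπs : Function.Surjective π.hom)
    (inj : ∀ r, α.hom r = 0 → β.hom r = 0 → r = 0)
    (surj : ∀ a b, φ.hom b = π.hom a → ∃ r, α.hom r = a ∧ β.hom r = b)
    (hπs' : Function.Surjective π'.hom)
    (inj' : ∀ r, α'.hom r = 0 → β'.hom r = 0 → r = 0)
    (surj' : ∀ a b, φ'.hom b = π'.hom a → ∃ r, α'.hom r = a ∧ β'.hom r = b)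
    (poA : IsPushout π uA u₀ π') (poB : IsPushout φ uB u₀ φ')
    (fA : uA.hom.Finite) (eA : uA.hom.Etale) (fB : uB.hom.Finite) (eB : uB.hom.Etale) :
    uR.hom.Finite ∧ uR.hom.Etale ∧ IsPushout α uR uA α' ∧ IsPushout β uR uB β' := by
  letI : Algebra R B := β.hom.toAlgebra
  letI : Algebra R A := α.hom.toAlgebra
  letI : Algebra B A₀ := φ.hom.toAlgebra
  letI : Algebra A A₀ := π.hom.toAlgebra
  letI : Algebra R A₀ := (α ≫ π).hom.toAlgebra
  haveI : IsScalarTower R B A₀ :=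
    .of_algebraMap_eq' (congrArg CommRingCat.Hom.hom hsq)
  haveI : IsScalarTower R A A₀ := .of_algebraMap_eq' rfl
  letI : Algebra RT BV := β'.hom.toAlgebra
  letI : Algebra RT AU := α'.hom.toAlgebra
  letI : Algebra BV C := φ'.hom.toAlgebra
  letI : Algebra AU C := π'.hom.toAlgebra
  letI : Algebra RT C := (α' ≫ π').hom.toAlgebra
  haveI : IsScalarTower RT BV C :=
    .of_algebraMap_eq' (congrArg CommRingCat.Hom.hom hsq')
  haveI : IsScalarTower RT AU C := .of_algebraMap_eq' rfl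
  letI : Algebra R RT := uR.hom.toAlgebra
  letI : Algebra B BV := uB.hom.toAlgebra
  letI : Algebra A AU := uA.hom.toAlgebra
  letI : Algebra A₀ C := u₀.hom.toAlgebra
  letI : Algebra R BV := (β ≫ uB).hom.toAlgebra
  haveI : IsScalarTower R B BV := .of_algebraMap_eq' rfl
  haveI : IsScalarTower R RT BV := .of_algebraMap_eq' (congrArg CommRingCat.Hom.hom hB)
  letI : Algebra R AU := (α ≫ uA).hom.toAlgebra
  haveI : IsScalarTower R A AU := .of_algebraMap_eq' rfl
  haveI : IsScalarTower R RT AU := .of_algebraMap_eq' (congrArg CommRingCat.Hom.hom hA)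
  letI : Algebra B C := (φ ≫ u₀).hom.toAlgebra
  haveI : IsScalarTower B A₀ C := .of_algebraMap_eq' rfl
  haveI : IsScalarTower B BV C := .of_algebraMap_eq' (congrArg CommRingCat.Hom.hom hφ)
  letI : Algebra A C := (π ≫ u₀).hom.toAlgebra
  haveI : IsScalarTower A A₀ C := .of_algebraMap_eq' rfl
  haveI : IsScalarTower A AU C := .of_algebraMap_eq' (congrArg CommRingCat.Hom.hom hπ)
  haveI : Algebra.IsPushout B BV A₀ C := CommRingCat.isPushout_iff_isPushout.mp poB.flip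
  haveI : Algebra.IsPushout A AU A₀ C := CommRingCat.isPushout_iff_isPushout.mp poA.flip
  have h1 : EtMil.IsFibreSquare R B A A₀ := by
    refine ⟨hπs, fun b a hba => ?_⟩
    obtain ⟨r, hr1, hr2⟩ := surj a b hba
    refine ⟨r, ⟨hr2, hr1⟩, fun r' hr' => ?_⟩
    have h0 : r' - r = 0 := by
      apply inj
      · rw [map_sub, sub_eq_zero]; exact hr'.2.trans hr1.symm
      · rw [map_sub, sub_eq_zero]; exact hr'.1.trans hr2.symm
    exact sub_eq_zero.mp h0
  have h2 : EtMil.IsFibreSquare RT BV AU C := by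
    refine ⟨hπs', fun b a hba => ?_⟩
    obtain ⟨r, hr1, hr2⟩ := surj' a b hba
    refine ⟨r, ⟨hr2, hr1⟩, fun r' hr' => ?_⟩
    have h0 : r' - r = 0 := by
      apply inj'
      · rw [map_sub, sub_eq_zero]; exact hr'.2.trans hr1.symm
      · rw [map_sub, sub_eq_zero]; exact hr'.1.trans hr2.symm
    exact sub_eq_zero.mp h0
  haveI : Module.Finite B BV := fB
  haveI : Module.Finite A AU := fA
  haveI : Algebra.Etale B BV := eB
  haveI : Algebra.Etale A AU := eA
  refine ⟨finite R B A A₀ h1 RT BV AU C h2, etale_of_finite R B A A₀ h1 RT BV AU C h2, ?_, ?_⟩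
  · exact (CommRingCat.isPushout_iff_isPushout.mpr (isPushout_snd R B A A₀ h1 RT BV AU C h2))
  · exact (CommRingCat.isPushout_iff_isPushout.mpr (isPushout_fst R B A A₀ h1 RT BV AU C h2))

end Groth.Agent.Lib.Helper28.Milnor
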