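import Groth.Agent.Lib.Helper28.Milnor.Smooth

/-!
# Relative Milnor squares: `CommRingCat` formulation of the five equivalences
-/

set_option autoImplicit false
universe u
open CategoryTheory Limits

namespace Groth.Agent.Lib.Helper28.Milnor

section Alg

variable (B' B A' A : Type u) [CommRing B'] [CommRing B] [CommRing A'] [CommRing A]
  [Algebra B' B] [Algebra B' A'] [Algebra B A] [Algebra A' A] [Algebra B' A]
  [IsScalarTower B' B A] [IsScalarTower B' A' A]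
  (hsq : EtMil.IsFibreSquare B' B A' A)
  (D' D C' C : Type u) [CommRing D'] [CommRing D] [CommRing C'] [CommRing C]
  [Algebra D' D] [Algebra D' C'] [Algebra D C] [Algebra C' C] [Algebra D' C]
  [IsScalarTower D' D C] [IsScalarTower D' C' C]
  (hsq' : EtMil.IsFibreSquare D' D C' C)
  [Algebra B' D'] [Algebra B D] [Algebra A' C'] [Algebra A C]
  [Algebra B' D] [IsScalarTower B' B D] [IsScalarTower B' D' D]
  [Algebra B' C'] [IsScalarTower B' A' C'] [IsScalarTower B' D' C']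
  [Algebra B C] [IsScalarTower B A C] [IsScalarTower B D C]
  [Algebra A' C] [IsScalarTower A' A C] [IsScalarTower A' C' C]
  [Algebra.IsPushout B D A C] [Algebra.IsPushout A' C' A C]

include hsq hsq' in
theorem props_iff :
    (Algebra.FiniteType B' D' ↔ Algebra.FiniteType B D ∧ Algebra.FiniteType A' C') ∧
    (Module.Flat B' D' ↔ Module.Flat B D ∧ Module.Flat A' C') ∧
    (Module.Flat B' D' ∧ Algebra.FinitePresentation B' D' ↔
      (Module.Flat B D ∧ Algebra.FinitePresentation B D) ∧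
        (Module.Flat A' C' ∧ Algebra.FinitePresentation A' C')) ∧
    (Algebra.Smooth B' D' ↔ Algebra.Smooth B D ∧ Algebra.Smooth A' C') ∧
    (Algebra.Etale B' D' ↔ Algebra.Etale B D ∧ Algebra.Etale A' C') := by
  refine ⟨⟨fun h => ?_, fun ⟨h1, h2⟩ => ?_⟩, ⟨fun h => ?_, fun ⟨h1, h2⟩ => ?_⟩,
    ⟨fun ⟨h, h'⟩ => ?_, fun ⟨⟨h1, h1'⟩, ⟨h2, h2'⟩⟩ => ?_⟩, ⟨fun h => ?_, fun ⟨h1, h2⟩ => ?_⟩,
    ⟨fun h => ?_, fun ⟨h1, h2⟩ => ?_⟩⟩
  · exact finiteType_fwd B' B A' A hsq D' D C' C hsq'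
  · exact finiteType B' B A' A hsq D' D C' C hsq'
  · exact flat_fwd B' B A' A hsq D' D C' C hsq'
  · exact flat B' B A' A hsq D' D C' C hsq'
  · have hf := flat_fwd B' B A' A hsq D' D C' C hsq'
    have hp := finitePresentation_fwd B' B A' A hsq D' D C' C hsq'
    exact ⟨⟨hf.1, hp.1⟩, ⟨hf.2, hp.2⟩⟩
  · exact ⟨flat B' B A' A hsq D' D C' C hsq', finitePresentation B' B A' A hsq D' D C' C hsq'⟩
  · exact smooth_fwd B' B A' A hsq D' D C' C hsq'
  · exact smooth B' B A' A hsq D' D C' C hsq'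
  · exact etale_fwd B' B A' A hsq D' D C' C hsq'
  · exact etale B' B A' A hsq D' D C' C hsq'

end Alg

variable {R A B A₀ RT AU BV C : CommRingCat.{u}}
  (α : R ⟶ A) (β : R ⟶ B) (π : A ⟶ A₀) (φ : B ⟶ A₀)
  (α' : RT ⟶ AU) (β' : RT ⟶ BV) (π' : AU ⟶ C) (φ' : BV ⟶ C)
  (uR : R ⟶ RT) (uA : A ⟶ AU) (uB : B ⟶ BV) (u₀ : A₀ ⟶ C)

/-- **Properties of algebras over a fibre square of rings**, `CommRingCat` formulation. -/
theorem props_of_fibreSquares
    (hA : α ≫ uA = uR ≫ α') (hB : β ≫ uB = uR ≫ β')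
    (hπ : π ≫ u₀ = uA ≫ π') (hφ : φ ≫ u₀ = uB ≫ φ')
    (hsq : α ≫ π = β ≫ φ) (hsq' : α' ≫ π' = β' ≫ φ')
    (hπs : Function.Surjective π.hom)
    (inj : ∀ r, α.hom r = 0 → β.hom r = 0 → r = 0)
    (surj : ∀ a b, φ.hom b = π.hom a → ∃ r, α.hom r = a ∧ β.hom r = b)
    (hπs' : Function.Surjective π'.hom)
    (inj' : ∀ r, α'.hom r = 0 → β'.hom r = 0 → r = 0)
    (surj' : ∀ a b, φ'.hom b = π'.hom a → ∃ r, α'.hom r = a ∧ β'.hom r = b)
    (poA : IsPushout π uA u₀ π') (poB : IsPushout φ uB u₀ φ') :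
    (uR.hom.FiniteType ↔ uB.hom.FiniteType ∧ uA.hom.FiniteType) ∧
    (uR.hom.Flat ↔ uB.hom.Flat ∧ uA.hom.Flat) ∧
    (uR.hom.Flat ∧ uR.hom.FinitePresentation ↔
      (uB.hom.Flat ∧ uB.hom.FinitePresentation) ∧ (uA.hom.Flat ∧ uA.hom.FinitePresentation)) ∧
    (uR.hom.Smooth ↔ uB.hom.Smooth ∧ uA.hom.Smooth) ∧
    (uR.hom.Etale ↔ uB.hom.Etale ∧ uA.hom.Etale) := by
  letI : Algebra R B := β.hom.toAlgebra
  letI : Algebra R A := α.hom.toAlgebra
  letI : Algebra B A₀ := φ.hom.toAlgebra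
  letI : Algebra A A₀ := π.hom.toAlgebra
  letI : Algebra R A₀ := (α ≫ π).hom.toAlgebra
  haveI : IsScalarTower R B A₀ :=
    .of_algebraMap_eq' (congrArg CommRingCat.Hom.hom hsq)
  haveI : IsScalarTower R A A₀ := .of_algebraMap_eq' rfl
  letI : Algebra RT BV := β'.hom.toAlgebra
  letI : Algebra RT AU := α'.hom.toAlgebra
  letI : Algebra BV C := φ'.hom.toAlgebra
  letI : Algebra AU C := π'.hom.toAlgebra
  letI : Algebra RT C := (α' ≫ π').hom.toAlgebra
  haveI : IsScalarTower RT BV C :=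
    .of_algebraMap_eq' (congrArg CommRingCat.Hom.hom hsq')
  haveI : IsScalarTower RT AU C := .of_algebraMap_eq' rfl
  letI : Algebra R RT := uR.hom.toAlgebra
  letI : Algebra B BV := uB.hom.toAlgebra
  letI : Algebra A AU := uA.hom.toAlgebra
  letI : Algebra A₀ C := u₀.hom.toAlgebra
  letI : Algebra R BV := (β ≫ uB).hom.toAlgebra
  haveI : IsScalarTower R B BV := .of_algebraMap_eq' rfl
  haveI : IsScalarTower R RT BV := .of_algebraMap_eq' (congrArg CommRingCat.Hom.hom hB)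
  letI : Algebra R AU := (α ≫ uA).hom.toAlgebra
  haveI : IsScalarTower R A AU := .of_algebraMap_eq' rfl
  haveI : IsScalarTower R RT AU := .of_algebraMap_eq' (congrArg CommRingCat.Hom.hom hA)
  letI : Algebra B C := (φ ≫ u₀).hom.toAlgebra
  haveI : IsScalarTower B A₀ C := .of_algebraMap_eq' rfl
  haveI : IsScalarTower B BV C := .of_algebraMap_eq' (congrArg CommRingCat.Hom.hom hφ)
  letI : Algebra A C := (π ≫ u₀).hom.toAlgebra
  haveI : IsScalarTower A A₀ C := .of_algebraMap_eq' rfl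
  haveI : IsScalarTower A AU C := .of_algebraMap_eq' (congrArg CommRingCat.Hom.hom hπ)
  haveI : Algebra.IsPushout B BV A₀ C := CommRingCat.isPushout_iff_isPushout.mp poB.flip
  haveI : Algebra.IsPushout A AU A₀ C := CommRingCat.isPushout_iff_isPushout.mp poA.flip
  have h1 : EtMil.IsFibreSquare R B A A₀ := by
    refine ⟨hπs, fun b a hba => ?_⟩
    obtain ⟨r, hr1, hr2⟩ := surj a b hba
    refine ⟨r, ⟨hr2, hr1⟩, fun r' hr' => ?_⟩
    have h0 : r' - r = 0 := by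
      apply inj
      · rw [map_sub, sub_eq_zero]; exact hr'.2.trans hr1.symm
      · rw [map_sub, sub_eq_zero]; exact hr'.1.trans hr2.symm
    exact sub_eq_zero.mp h0
  have h2 : EtMil.IsFibreSquare RT BV AU C := by
    refine ⟨hπs', fun b a hba => ?_⟩
    obtain ⟨r, hr1, hr2⟩ := surj' a b hba
    refine ⟨r, ⟨hr2, hr1⟩, fun r' hr' => ?_⟩
    have h0 : r' - r = 0 := by
      apply inj'
      · rw [map_sub, sub_eq_zero]; exact hr'.2.trans hr1.symm
      · rw [map_sub, sub_eq_zero]; exact hr'.1.trans hr2.symm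
    exact sub_eq_zero.mp h0
  exact props_iff R B A A₀ h1 RT BV AU C h2

end Groth.Agent.Lib.Helper28.Milnor
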