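import Groth.Agent.Lib.Helper28.Milnor.Fwd

/-!
# Relative Milnor squares: finite presentation descends
-/

set_option autoImplicit false
set_option linter.unusedSectionVars false
universe u
open TensorProduct

namespace Groth.Agent.Lib.Helper28.Milnor

/-- If the extension of an ideal is finitely generated, it is already the extension of
a finitely generated subideal. -/
theorem exists_finset_of_map_fg {R S : Type*} [CommRing R] [CommRing S] (φ : R →+* S)
    (I : Ideal R) (h : (I.map φ).FG) :
    ∃ T : Finset R, (T : Set R) ⊆ I ∧ (Ideal.span (T : Set R)).map φ = I.map φ := by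
  classical
  have h' : (Submodule.span S (φ '' (I : Set R))).FG := h
  obtain ⟨s', hs', heq⟩ := (Submodule.fg_span_iff_fg_span_finset_subset _).mp h'
  have hlift : ∀ y : s', ∃ x : R, x ∈ I ∧ φ x = y := by
    intro y
    obtain ⟨x, hx, hxy⟩ := hs' y.2
    exact ⟨x, hx, hxy⟩
  choose g hgI hg using hlift
  refine ⟨Finset.univ.image g, ?_, ?_⟩
  · intro x hx
    rw [Finset.mem_coe, Finset.mem_image] at hx
    obtain ⟨y, -, rfl⟩ := hx
    exact hgI y
  · apply le_antisymm
    · apply Ideal.map_mono
      apply Ideal.span_le.mpr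
      intro x hx
      rw [Finset.mem_coe, Finset.mem_image] at hx
      obtain ⟨y, -, rfl⟩ := hx
      exact hgI y
    · change Submodule.span S (φ '' (I : Set R)) ≤ _
      rw [heq]
      apply Submodule.span_le.mpr
      intro y hy
      have : y = φ (g ⟨y, hy⟩) := (hg ⟨y, hy⟩).symm
      rw [this]
      apply Ideal.mem_map_of_mem
      apply Ideal.subset_span
      rw [Finset.mem_coe, Finset.mem_image]
      exact ⟨⟨y, hy⟩, Finset.mem_univ _, rfl⟩

section Ideal

variable {B' B A' A : Type u} [CommRing B'] [CommRing B] [CommRing A'] [CommRing A]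
  [Algebra B' B] [Algebra B' A'] [Algebra B A] [Algebra A' A] [Algebra B' A]
  [IsScalarTower B' B A] [IsScalarTower B' A' A]

/-- Finite generation of the kernel of a surjection onto a flat algebra over a Milnor square
can be checked after base change to the two corners. -/
theorem ker_fg_of_map_fg (hsq : EtMil.IsFibreSquare B' B A' A)
    {P' D' : Type u} [CommRing P'] [Algebra B' P'] [CommRing D'] [Algebra B' D'] [Module.Flat B' D']
    (f : P' →ₐ[B'] D') (hf : Function.Surjective f)
    (h1 : ((RingHom.ker f).map
      (Algebra.TensorProduct.includeRight : P' →ₐ[B'] B ⊗[B'] P')).FG)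
    (h2 : ((RingHom.ker f).map
      (Algebra.TensorProduct.includeRight : P' →ₐ[B'] A' ⊗[B'] P')).FG) :
    (RingHom.ker f).FG := by
  classical
  obtain ⟨T₁, hT₁, e₁⟩ := exists_finset_of_map_fg _ _ h1
  obtain ⟨T₂, hT₂, e₂⟩ := exists_finset_of_map_fg _ _ h2
  obtain ⟨K'', hK''⟩ : ∃ K'' : Ideal P', K'' = Ideal.span ((T₁ ∪ T₂ : Finset P') : Set P') :=
    ⟨_, rfl⟩
  have hle : K'' ≤ RingHom.ker f := by
    rw [hK'']
    apply Ideal.span_le.mpr
    intro x hx
    rw [Finset.coe_union] at hx
    rcases hx with hx | hx
    · exact hT₁ hx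
    · exact hT₂ hx
  have hle₁ : Ideal.span (T₁ : Set P') ≤ K'' := by
    rw [hK'']
    exact Ideal.span_mono (by rw [Finset.coe_union]; exact Set.subset_union_left)
  have hle₂ : Ideal.span (T₂ : Set P') ≤ K'' := by
    rw [hK'']
    exact Ideal.span_mono (by rw [Finset.coe_union]; exact Set.subset_union_right)
  have e₁' : K''.map (Algebra.TensorProduct.includeRight : P' →ₐ[B'] B ⊗[B'] P') =
      (RingHom.ker f).map (Algebra.TensorProduct.includeRight : P' →ₐ[B'] B ⊗[B'] P') :=
    le_antisymm (Ideal.map_mono hle) (e₁ ▸ Ideal.map_mono hle₁)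
  have e₂' : K''.map (Algebra.TensorProduct.includeRight : P' →ₐ[B'] A' ⊗[B'] P') =
      (RingHom.ker f).map (Algebra.TensorProduct.includeRight : P' →ₐ[B'] A' ⊗[B'] P') :=
    le_antisymm (Ideal.map_mono hle) (e₂ ▸ Ideal.map_mono hle₂)
  -- the inclusion
  obtain ⟨j, hj⟩ : ∃ j : ↥(K''.restrictScalars B') →ₗ[B'] ↥((RingHom.ker f).restrictScalars B'),
      j = Submodule.inclusion (p := K''.restrictScalars B')
        (p' := (RingHom.ker f).restrictScalars B') (fun x hx => hle hx) := ⟨_, rfl⟩
  have hjs : ((RingHom.ker f).restrictScalars B').subtype ∘ₗ j = (K''.restrictScalars B').subtype := by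
    rw [hj]
    rfl
  have hexact : Function.Exact ((RingHom.ker f).restrictScalars B').subtype f.toLinearMap := by
    intro y
    constructor
    · intro hy
      exact ⟨⟨y, hy⟩, rfl⟩
    · rintro ⟨z, rfl⟩
      exact z.2
  have hinj : ∀ (S : Type u) [CommRing S] [Algebra B' S],
      Function.Injective (((RingHom.ker f).restrictScalars B').subtype.lTensor S) := fun S _ _ =>
    LinearMap.lTensor_injective_of_exact_of_flat f.toLinearMap hf _
      (Submodule.subtype_injective _) hexact S
  have key : ∀ (S : Type u) [CommRing S] [Algebra B' S],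
      K''.map (Algebra.TensorProduct.includeRight : P' →ₐ[B'] S ⊗[B'] P') =
        (RingHom.ker f).map (Algebra.TensorProduct.includeRight : P' →ₐ[B'] S ⊗[B'] P') →
      Function.Surjective (j.lTensor S) := by
    intro S _ _ e z
    have hz : ((RingHom.ker f).restrictScalars B').subtype.lTensor S z ∈
        LinearMap.range ((K''.restrictScalars B').subtype.lTensor S) := by
      rw [← Ideal.map_includeRight_eq, e, Ideal.map_includeRight_eq]
      exact ⟨z, rfl⟩
    obtain ⟨w, hw⟩ := hz
    refine ⟨w, hinj S ?_⟩
    rw [← hw, ← hjs, LinearMap.lTensor_comp]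
    rfl
  have hsurj : Function.Surjective j := surjective_of_lTensor hsq j (key B e₁') (key A' e₂')
  have heq : RingHom.ker f = K'' := by
    apply le_antisymm _ hle
    intro x hx
    obtain ⟨y, hy⟩ := hsurj ⟨x, hx⟩
    have : (y : P') = x := by
      rw [hj] at hy
      exact congrArg Subtype.val hy
    rw [← this]
    exact y.2
  rw [heq, hK'']
  exact ⟨_, rfl⟩

end Ideal

/-- The extension of the kernel of a surjection to a base change is finitely generated when
the base-changed target is finitely presented. -/
theorem map_ker_fg_of_finitePresentation {R S P D : Type*} [CommRing R] [CommRing S] [Algebra R S]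
    [CommRing P] [Algebra R P] [CommRing D] [Algebra R D]
    [Algebra.FinitePresentation R P] [Algebra.FinitePresentation S (S ⊗[R] D)]
    (f : P →ₐ[R] D) (hf : Function.Surjective f) :
    ((RingHom.ker f).map (Algebra.TensorProduct.includeRight : P →ₐ[R] S ⊗[R] P)).FG := by
  have hs : Function.Surjective (Algebra.TensorProduct.map (AlgHom.id S S) f) :=
    Algebra.TensorProduct.map_surjective (AlgHom.id S S) f Function.surjective_id hf
  have h := Algebra.FinitePresentation.ker_fG_of_surjective
    (Algebra.TensorProduct.map (AlgHom.id S S) f) hs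
  have e : (RingHom.ker f).map (Algebra.TensorProduct.includeRight : P →ₐ[R] S ⊗[R] P) =
      RingHom.ker (Algebra.TensorProduct.map (AlgHom.id S S) f).toRingHom := by
    rw [← Algebra.TensorProduct.lTensor_ker (A := S) f hf]
    ext x
    rfl
  rw [e]
  exact h

section Main

variable (B' B A' A : Type u) [CommRing B'] [CommRing B] [CommRing A'] [CommRing A]
  [Algebra B' B] [Algebra B' A'] [Algebra B A] [Algebra A' A] [Algebra B' A]
  [IsScalarTower B' B A] [IsScalarTower B' A' A]
  (hsq : EtMil.IsFibreSquare B' B A' A)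
  (D' D C' C : Type u) [CommRing D'] [CommRing D] [CommRing C'] [CommRing C]
  [Algebra D' D] [Algebra D' C'] [Algebra D C] [Algebra C' C] [Algebra D' C]
  [IsScalarTower D' D C] [IsScalarTower D' C' C]
  (hsq' : EtMil.IsFibreSquare D' D C' C)
  [Algebra B' D'] [Algebra B D] [Algebra A' C'] [Algebra A C]
  [Algebra B' D] [IsScalarTower B' B D] [IsScalarTower B' D' D]
  [Algebra B' C'] [IsScalarTower B' A' C'] [IsScalarTower B' D' C']
  [Algebra B C] [IsScalarTower B A C] [IsScalarTower B D C]
  [Algebra A' C] [IsScalarTower A' A C] [IsScalarTower A' C' C]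
  [Algebra.IsPushout B D A C] [Algebra.IsPushout A' C' A C]

include hsq hsq' in
/-- Flat + finitely presented glues over a Milnor square. -/
theorem finitePresentation [Module.Flat B D] [Module.Flat A' C']
    [Algebra.FinitePresentation B D] [Algebra.FinitePresentation A' C'] :
    Algebra.FinitePresentation B' D' := by
  haveI := flat B' B A' A hsq D' D C' C hsq'
  haveI : Algebra.FiniteType B D := inferInstance
  haveI : Algebra.FiniteType A' C' := inferInstance
  haveI hft := finiteType B' B A' A hsq D' D C' C hsq'
  obtain ⟨n, f, hf⟩ := Algebra.FiniteType.iff_quotient_mvPolynomial''.mp hft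
  refine ⟨n, f, hf, ?_⟩
  haveI := isPushout_fst B' B A' A hsq D' D C' C hsq'
  haveI := isPushout_snd B' B A' A hsq D' D C' C hsq'
  haveI : Algebra.FinitePresentation B (B ⊗[B'] D') :=
    Algebra.FinitePresentation.equiv (Algebra.IsPushout.equiv B' B D' D).symm
  haveI : Algebra.FinitePresentation A' (A' ⊗[B'] D') :=
    Algebra.FinitePresentation.equiv (Algebra.IsPushout.equiv B' A' D' C').symm
  exact ker_fg_of_map_fg hsq f hf (map_ker_fg_of_finitePresentation f hf)
    (map_ker_fg_of_finitePresentation f hf)

end Main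

end Groth.Agent.Lib.Helper28.Milnor
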