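import Groth.Agent.Lib.Helper28.Milnor.Props

/-!
# Relative Milnor squares: forward directions (base change)
-/

set_option autoImplicit false
set_option linter.unusedSectionVars false
universe u
open TensorProduct

namespace Groth.Agent.Lib.Helper28.Milnor

variable (B' B A' A : Type u) [CommRing B'] [CommRing B] [CommRing A'] [CommRing A]
  [Algebra B' B] [Algebra B' A'] [Algebra B A] [Algebra A' A] [Algebra B' A]
  [IsScalarTower B' B A] [IsScalarTower B' A' A]
  (hsq : EtMil.IsFibreSquare B' B A' A)
  (D' D C' C : Type u) [CommRing D'] [CommRing D] [CommRing C'] [CommRing C]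
  [Algebra D' D] [Algebra D' C'] [Algebra D C] [Algebra C' C] [Algebra D' C]
  [IsScalarTower D' D C] [IsScalarTower D' C' C]
  (hsq' : EtMil.IsFibreSquare D' D C' C)
  [Algebra B' D'] [Algebra B D] [Algebra A' C'] [Algebra A C]
  [Algebra B' D] [IsScalarTower B' B D] [IsScalarTower B' D' D]
  [Algebra B' C'] [IsScalarTower B' A' C'] [IsScalarTower B' D' C']
  [Algebra B C] [IsScalarTower B A C] [IsScalarTower B D C]
  [Algebra A' C] [IsScalarTower A' A C] [IsScalarTower A' C' C]
  [Algebra.IsPushout B D A C] [Algebra.IsPushout A' C' A C]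

include hsq hsq' in
theorem finiteType_fwd [Algebra.FiniteType B' D'] :
    Algebra.FiniteType B D ∧ Algebra.FiniteType A' C' := by
  haveI := isPushout_fst B' B A' A hsq D' D C' C hsq'
  haveI := isPushout_snd B' B A' A hsq D' D C' C hsq'
  exact ⟨Algebra.FiniteType.equiv inferInstance (Algebra.IsPushout.equiv B' B D' D),
    Algebra.FiniteType.equiv inferInstance (Algebra.IsPushout.equiv B' A' D' C')⟩

include hsq hsq' in
theorem flat_fwd [Module.Flat B' D'] : Module.Flat B D ∧ Module.Flat A' C' := by
  haveI := isPushout_fst B' B A' A hsq D' D C' C hsq'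
  haveI := isPushout_snd B' B A' A hsq D' D C' C hsq'
  exact ⟨Module.Flat.of_linearEquiv (Algebra.IsPushout.equiv B' B D' D).toLinearEquiv.symm,
    Module.Flat.of_linearEquiv (Algebra.IsPushout.equiv B' A' D' C').toLinearEquiv.symm⟩

include hsq hsq' in
theorem finitePresentation_fwd [Algebra.FinitePresentation B' D'] :
    Algebra.FinitePresentation B D ∧ Algebra.FinitePresentation A' C' := by
  haveI := isPushout_fst B' B A' A hsq D' D C' C hsq'
  haveI := isPushout_snd B' B A' A hsq D' D C' C hsq'
  exact ⟨Algebra.FinitePresentation.equiv (Algebra.IsPushout.equiv B' B D' D),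
    Algebra.FinitePresentation.equiv (Algebra.IsPushout.equiv B' A' D' C')⟩

include hsq hsq' in
theorem smooth_fwd [Algebra.Smooth B' D'] : Algebra.Smooth B D ∧ Algebra.Smooth A' C' := by
  haveI := isPushout_fst B' B A' A hsq D' D C' C hsq'
  haveI := isPushout_snd B' B A' A hsq D' D C' C hsq'
  exact ⟨Algebra.Smooth.of_equiv (Algebra.IsPushout.equiv B' B D' D),
    Algebra.Smooth.of_equiv (Algebra.IsPushout.equiv B' A' D' C')⟩

include hsq hsq' in
theorem etale_fwd [Algebra.Etale B' D'] : Algebra.Etale B D ∧ Algebra.Etale A' C' := by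
  haveI := isPushout_fst B' B A' A hsq D' D C' C hsq'
  haveI := isPushout_snd B' B A' A hsq D' D C' C hsq'
  exact ⟨Algebra.Etale.of_equiv (Algebra.IsPushout.equiv B' B D' D),
    Algebra.Etale.of_equiv (Algebra.IsPushout.equiv B' A' D' C')⟩

end Groth.Agent.Lib.Helper28.Milnor
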