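import Groth.Agent.Lib.Helper28.Milnor.Rel

/-!
# Relative Milnor squares: properties of algebras (Stacks 08KG-style)
-/

set_option autoImplicit false
set_option linter.unusedSectionVars false
universe u
open TensorProduct

namespace Groth.Agent.Lib.Helper28.Milnor

section Surj

variable {B' B A' A : Type u} [CommRing B'] [CommRing B] [CommRing A'] [CommRing A]
  [Algebra B' B] [Algebra B' A'] [Algebra B A] [Algebra A' A] [Algebra B' A]
  [IsScalarTower B' B A] [IsScalarTower B' A' A]

/-- Surjectivity of a linear map over a Milnor square can be checked after base change to the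
two corners. -/
theorem surjective_of_lTensor (hsq : EtMil.IsFibreSquare B' B A' A)
    {M L : Type u} [AddCommGroup M] [Module B' M] [AddCommGroup L] [Module B' L]
    (f : M →ₗ[B'] L) (h1 : Function.Surjective (f.lTensor B))
    (h2 : Function.Surjective (f.lTensor A')) : Function.Surjective f := by
  have key : ∀ (S : Type u) [CommRing S] [Algebra B' S], Function.Surjective (f.lTensor S) →
      Subsingleton (S ⊗[B'] (L ⧸ LinearMap.range f)) := by
    intro S _ _ hS
    refine ⟨fun x y => ?_⟩
    suffices h : ∀ z : S ⊗[B'] (L ⧸ LinearMap.range f), z = 0 by rw [h x, h y]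
    intro z
    obtain ⟨y, rfl⟩ := LinearMap.lTensor_surjective S (LinearMap.range f).mkQ_surjective z
    obtain ⟨w, rfl⟩ := hS y
    rw [← LinearMap.comp_apply, ← LinearMap.lTensor_comp]
    have : (LinearMap.range f).mkQ ∘ₗ f = 0 := by
      ext x
      simp
    rw [this, LinearMap.lTensor_zero, LinearMap.zero_apply]
  haveI := key B h1
  haveI := key A' h2
  have hQ : Subsingleton (L ⧸ LinearMap.range f) :=
    Groth.Agent.Lib.Helper22.Milnor.subsingleton_of_baseChange _ hsq
  rw [Submodule.Quotient.subsingleton_iff] at hQ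
  exact LinearMap.range_eq_top.mp hQ

end Surj

section Props

variable (B' B A' A : Type u) [CommRing B'] [CommRing B] [CommRing A'] [CommRing A]
  [Algebra B' B] [Algebra B' A'] [Algebra B A] [Algebra A' A] [Algebra B' A]
  [IsScalarTower B' B A] [IsScalarTower B' A' A]
  (hsq : EtMil.IsFibreSquare B' B A' A)
  (D' D C' C : Type u) [CommRing D'] [CommRing D] [CommRing C'] [CommRing C]
  [Algebra D' D] [Algebra D' C'] [Algebra D C] [Algebra C' C] [Algebra D' C]
  [IsScalarTower D' D C] [IsScalarTower D' C' C]
  (hsq' : EtMil.IsFibreSquare D' D C' C)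
  [Algebra B' D'] [Algebra B D] [Algebra A' C'] [Algebra A C]
  [Algebra B' D] [IsScalarTower B' B D] [IsScalarTower B' D' D]
  [Algebra B' C'] [IsScalarTower B' A' C'] [IsScalarTower B' D' C']
  [Algebra B C] [IsScalarTower B A C] [IsScalarTower B D C]
  [Algebra A' C] [IsScalarTower A' A C] [IsScalarTower A' C' C]
  [Algebra.IsPushout B D A C] [Algebra.IsPushout A' C' A C]

include hsq hsq' in
/-- A `B'`-algebra map into `D'` is surjective as soon as its base changes to `B` and `A'`
are. -/
theorem surjective_of_baseChange {P' : Type u} [CommRing P'] [Algebra B' P'] (f : P' →ₐ[B'] D')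
    (h1 : Function.Surjective (Algebra.TensorProduct.productLeftAlgHom (Algebra.ofId B D)
      ((IsScalarTower.toAlgHom B' D' D).comp f)))
    (h2 : Function.Surjective (Algebra.TensorProduct.productLeftAlgHom (Algebra.ofId A' C')
      ((IsScalarTower.toAlgHom B' D' C').comp f))) : Function.Surjective f := by
  have hb := bijective_liftFst B' B A' A hsq D' D C' C hsq'
  refine surjective_of_lTensor hsq f.toLinearMap ?_ ?_
  · have hΨ : ∀ z : B ⊗[B'] P', Algebra.TensorProduct.productLeftAlgHom (Algebra.ofId B D)
        ((IsScalarTower.toAlgHom B' D' D).comp f) z =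
        LinearMap.liftBaseChange B (IsScalarTower.toAlgHom B' D' D).toLinearMap
          (f.toLinearMap.lTensor B z) := by
      intro z
      induction z using TensorProduct.induction_on with
      | zero => rw [map_zero, map_zero, map_zero]
      | tmul b p =>
        rw [LinearMap.lTensor_tmul, LinearMap.liftBaseChange_tmul, Algebra.smul_def]
        rfl
      | add x y hx hy => rw [map_add, map_add, map_add, hx, hy]
    intro y
    obtain ⟨z, hz⟩ := h1 (LinearMap.liftBaseChange B (IsScalarTower.toAlgHom B' D' D).toLinearMap y)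
    rw [hΨ] at hz
    exact ⟨z, hb.1.1 hz⟩
  · have hΨ : ∀ z : A' ⊗[B'] P', Algebra.TensorProduct.productLeftAlgHom (Algebra.ofId A' C')
        ((IsScalarTower.toAlgHom B' D' C').comp f) z =
        LinearMap.liftBaseChange A' (IsScalarTower.toAlgHom B' D' C').toLinearMap
          (f.toLinearMap.lTensor A' z) := by
      intro z
      induction z using TensorProduct.induction_on with
      | zero => rw [map_zero, map_zero, map_zero]
      | tmul b p =>
        rw [LinearMap.lTensor_tmul, LinearMap.liftBaseChange_tmul, Algebra.smul_def]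
        rfl
      | add x y hx hy => rw [map_add, map_add, map_add, hx, hy]
    intro y
    obtain ⟨z, hz⟩ := h2 (LinearMap.liftBaseChange A' (IsScalarTower.toAlgHom B' D' C').toLinearMap y)
    rw [hΨ] at hz
    exact ⟨z, hb.2.1 hz⟩

include hsq hsq' in
/-- Finite type glues over a Milnor square. -/
theorem finiteType [Algebra.FiniteType B D] [Algebra.FiniteType A' C'] :
    Algebra.FiniteType B' D' := by
  classical
  obtain ⟨s, hs⟩ := (Algebra.FiniteType.out : (⊤ : Subalgebra B D).FG)
  obtain ⟨t, ht⟩ := (Algebra.FiniteType.out : (⊤ : Subalgebra A' C').FG)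
  have hD : Function.Surjective (algebraMap D' D) :=
    Groth.Agent.Lib.Helper22.Milnor.surjective_algebraMap hsq'
  choose lift hlift using hD
  have hspan : ∀ y : C', ∃ F : Finset D',
      y ∈ Submodule.span A' ((algebraMap D' C') '' (F : Set D')) := by
    intro y
    obtain ⟨z, rfl⟩ := (bijective_liftFst B' B A' A hsq D' D C' C hsq').2.2 y
    induction z using TensorProduct.induction_on with
    | zero => exact ⟨∅, by rw [map_zero]; exact Submodule.zero_mem _⟩
    | tmul a' d' =>
      refine ⟨{d'}, ?_⟩
      rw [LinearMap.liftBaseChange_tmul]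
      exact Submodule.smul_mem _ _ (Submodule.subset_span ⟨d', by simp, rfl⟩)
    | add x y hx hy =>
      obtain ⟨F₁, h₁⟩ := hx
      obtain ⟨F₂, h₂⟩ := hy
      refine ⟨F₁ ∪ F₂, ?_⟩
      rw [map_add]
      exact Submodule.add_mem _
        (Submodule.span_mono (Set.image_mono (by simp)) h₁)
        (Submodule.span_mono (Set.image_mono (by simp)) h₂)
  choose F hF using hspan
  obtain ⟨G, hG⟩ : ∃ G : Finset D', G = s.image lift ∪ t.biUnion F := ⟨_, rfl⟩
  have hG₁ : ∀ d ∈ s, lift d ∈ G := fun d hd => by
    rw [hG]; exact Finset.mem_union_left _ (Finset.mem_image_of_mem _ hd)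
  have hG₂ : ∀ y ∈ t, ∀ d' ∈ F y, d' ∈ G := fun y hy d' hd' => by
    rw [hG]; exact Finset.mem_union_right _ (Finset.mem_biUnion.mpr ⟨y, hy, hd'⟩)
  obtain ⟨f, hf⟩ : ∃ f : MvPolynomial G B' →ₐ[B'] D',
      f = MvPolynomial.aeval (fun g : G => (g : D')) := ⟨_, rfl⟩
  have hfX : ∀ g : G, f (MvPolynomial.X g) = (g : D') := fun g => by
    rw [hf, MvPolynomial.aeval_X]
  have hsurj : Function.Surjective f := by
    apply surjective_of_baseChange B' B A' A hsq D' D C' C hsq' f
    · rw [← AlgHom.range_eq_top, eq_top_iff, ← hs]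
      apply Algebra.adjoin_le
      intro d hd
      refine ⟨(1 : B) ⊗ₜ[B'] MvPolynomial.X ⟨lift d, hG₁ d hd⟩, ?_⟩
      change (Algebra.ofId B D) 1 * algebraMap D' D (f (MvPolynomial.X ⟨lift d, hG₁ d hd⟩)) = d
      rw [map_one, one_mul, hfX, hlift]
    · rw [← AlgHom.range_eq_top, eq_top_iff, ← ht]
      apply Algebra.adjoin_le
      intro y hy
      have hle : Submodule.span A' ((algebraMap D' C') '' (F y : Set D')) ≤
          Subalgebra.toSubmodule (Algebra.TensorProduct.productLeftAlgHom (Algebra.ofId A' C')
            ((IsScalarTower.toAlgHom B' D' C').comp f)).range := by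
        apply Submodule.span_le.mpr
        rintro _ ⟨d', hd', rfl⟩
        refine ⟨(1 : A') ⊗ₜ[B'] MvPolynomial.X ⟨d', hG₂ y hy d' hd'⟩, ?_⟩
        change (Algebra.ofId A' C') 1 *
          algebraMap D' C' (f (MvPolynomial.X ⟨d', hG₂ y hy d' hd'⟩)) = _
        rw [map_one, one_mul, hfX]
      exact hle (hF y)
  refine ⟨⟨G, ?_⟩⟩
  have h1 : Algebra.adjoin B' (Set.range (fun g : G => (g : D'))) = f.range := by
    rw [hf]
    exact Algebra.adjoin_range_eq_range_aeval B' _
  have h2 : Set.range (fun g : G => (g : D')) = (G : Set D') := by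
    ext x
    simp
  rw [← h2, h1, AlgHom.range_eq_top]
  exact hsurj

end Props

end Groth.Agent.Lib.Helper28.Milnor
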