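import Mathlib
import Groth.Prelude.Def_EtMil
import Groth.Agent.Lib.Lead.MilnorGlue
import Groth.Agent.Lib.Helper22.Milnor
import Groth.Agent.S14952
import Groth.Agent.S14954

/-!
# Relative Milnor squares: algebras over a fibre product of rings
-/

set_option autoImplicit false
set_option linter.unusedSectionVars false
universe u
open TensorProduct

namespace Groth.Agent.Lib.Helper28.Milnor

variable (B' B A' A : Type u) [CommRing B'] [CommRing B] [CommRing A'] [CommRing A]
  [Algebra B' B] [Algebra B' A'] [Algebra B A] [Algebra A' A] [Algebra B' A]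
  [IsScalarTower B' B A] [IsScalarTower B' A' A]
  (hsq : EtMil.IsFibreSquare B' B A' A)
  (D' D C' C : Type u) [CommRing D'] [CommRing D] [CommRing C'] [CommRing C]
  [Algebra D' D] [Algebra D' C'] [Algebra D C] [Algebra C' C] [Algebra D' C]
  [IsScalarTower D' D C] [IsScalarTower D' C' C]
  (hsq' : EtMil.IsFibreSquare D' D C' C)
  [Algebra B' D'] [Algebra B D] [Algebra A' C'] [Algebra A C]
  [Algebra B' D] [IsScalarTower B' B D] [IsScalarTower B' D' D]
  [Algebra B' C'] [IsScalarTower B' A' C'] [IsScalarTower B' D' C']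
  [Algebra B C] [IsScalarTower B A C] [IsScalarTower B D C]
  [Algebra A' C] [IsScalarTower A' A C] [IsScalarTower A' C' C]
  [Algebra.IsPushout B D A C] [Algebra.IsPushout A' C' A C]

/-- The gluing isomorphism `A ⊗_B D ≅ C ≅ A ⊗_{A'} C'`. -/
noncomputable def glueIso : A ⊗[B] D ≃ₗ[A] A ⊗[A'] C' :=
  haveI h1 : Algebra.IsPushout B A D C := Algebra.IsPushout.symm inferInstance
  haveI h2 : Algebra.IsPushout A' A C' C := Algebra.IsPushout.symm inferInstance
  (Algebra.IsPushout.equiv B A D C).toLinearEquiv ≪≫ₗ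
    (Algebra.IsPushout.equiv A' A C' C).toLinearEquiv.symm

lemma glueIso_one_tmul (d : D) (c' : C') :
    glueIso B A' A D C' C ((1 : A) ⊗ₜ[B] d) = (1 : A) ⊗ₜ[A'] c' ↔
      algebraMap D C d = algebraMap C' C c' := by
  haveI h1 : Algebra.IsPushout B A D C := Algebra.IsPushout.symm inferInstance
  haveI h2 : Algebra.IsPushout A' A C' C := Algebra.IsPushout.symm inferInstance
  unfold glueIso
  rw [LinearEquiv.trans_apply, LinearEquiv.symm_apply_eq]
  change Algebra.IsPushout.equiv B A D C ((1 : A) ⊗ₜ[B] d) =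
    Algebra.IsPushout.equiv A' A C' C ((1 : A) ⊗ₜ[A'] c') ↔ _
  rw [Algebra.IsPushout.equiv_tmul, Algebra.IsPushout.equiv_tmul, map_one, one_mul, one_mul]

include hsq hsq' in
theorem bijective_liftFst :
    Function.Bijective (LinearMap.liftBaseChange B (IsScalarTower.toAlgHom B' D' D).toLinearMap) ∧
    Function.Bijective (LinearMap.liftBaseChange A' (IsScalarTower.toAlgHom B' D' C').toLinearMap) := by
  have hinj : ∀ x : D', (IsScalarTower.toAlgHom B' D' D).toLinearMap x = 0 →
      (IsScalarTower.toAlgHom B' D' C').toLinearMap x = 0 → x = 0 := by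
    intro x h1 h2
    exact Groth.Agent.Lib.Helper22.Milnor.eq_of_algebraMap_eq hsq'
      (h1.trans (map_zero _).symm) (h2.trans (map_zero _).symm)
  have himg : ∀ (n : D) (m' : C'), glueIso B A' A D C' C ((1 : A) ⊗ₜ[B] n) = (1 : A) ⊗ₜ[A'] m' ↔
      ∃ x : D', (IsScalarTower.toAlgHom B' D' D).toLinearMap x = n ∧
        (IsScalarTower.toAlgHom B' D' C').toLinearMap x = m' := by
    intro n m'
    rw [glueIso_one_tmul]
    constructor
    · intro h
      obtain ⟨x, hx, -⟩ := hsq'.2 n m' h
      exact ⟨x, hx⟩
    · rintro ⟨x, rfl, rfl⟩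
      change algebraMap D C (algebraMap D' D x) = algebraMap C' C (algebraMap D' C' x)
      rw [← IsScalarTower.algebraMap_apply, ← IsScalarTower.algebraMap_apply]
  exact ⟨⟨Groth.Agent.Lib.Lead.MilnorGlue.liftFst_injective hsq _ _ _ hinj himg,
      Groth.Agent.Lib.Lead.MilnorGlue.liftFst_surjective hsq _ _ _ himg⟩,
    ⟨Groth.Agent.Lib.Lead.MilnorGlue.liftSnd_injective hsq _ _ _ hinj himg,
      Groth.Agent.Lib.Lead.MilnorGlue.liftSnd_surjective hsq _ _ _ himg⟩⟩

include hsq hsq' in
/-- `D = B ⊗_{B'} D'`. -/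
theorem isPushout_fst : Algebra.IsPushout B' B D' D := by
  constructor
  refine IsBaseChange.of_equiv (LinearEquiv.ofBijective _
    (bijective_liftFst B' B A' A hsq D' D C' C hsq').1) ?_
  intro x
  change LinearMap.liftBaseChange B (IsScalarTower.toAlgHom B' D' D).toLinearMap (1 ⊗ₜ x) = _
  rw [LinearMap.liftBaseChange_tmul, one_smul]

include hsq hsq' in
/-- `C' = A' ⊗_{B'} D'`. -/
theorem isPushout_snd : Algebra.IsPushout B' A' D' C' := by
  constructor
  refine IsBaseChange.of_equiv (LinearEquiv.ofBijective _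
    (bijective_liftFst B' B A' A hsq D' D C' C hsq').2) ?_
  intro x
  change LinearMap.liftBaseChange A' (IsScalarTower.toAlgHom B' D' C').toLinearMap (1 ⊗ₜ x) = _
  rw [LinearMap.liftBaseChange_tmul, one_smul]

/-- The identification `B ⊗_{B'} D' ≅ D`. -/
noncomputable def equivFst : B ⊗[B'] D' ≃ₗ[B] D :=
  LinearEquiv.ofBijective _ (bijective_liftFst B' B A' A hsq D' D C' C hsq').1

/-- The identification `A' ⊗_{B'} D' ≅ C'`. -/
noncomputable def equivSnd : A' ⊗[B'] D' ≃ₗ[A'] C' :=
  LinearEquiv.ofBijective _ (bijective_liftFst B' B A' A hsq D' D C' C hsq').2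

include hsq hsq' in
theorem finite [Module.Finite B D] [Module.Finite A' C'] : Module.Finite B' D' := by
  haveI : Module.Finite B (B ⊗[B'] D') :=
    Module.Finite.equiv (equivFst B' B A' A hsq D' D C' C hsq').symm
  haveI : Module.Finite A' (A' ⊗[B'] D') :=
    Module.Finite.equiv (equivSnd B' B A' A hsq D' D C' C hsq').symm
  exact Groth.Agent.Lib.Helper22.Milnor.finite_of_baseChange D' hsq

include hsq hsq' in
theorem flat [Module.Flat B D] [Module.Flat A' C'] : Module.Flat B' D' := by
  haveI : Module.Flat B (B ⊗[B'] D') :=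
    Module.Flat.of_linearEquiv (equivFst B' B A' A hsq D' D C' C hsq')
  haveI : Module.Flat A' (A' ⊗[B'] D') :=
    Module.Flat.of_linearEquiv (equivSnd B' B A' A hsq D' D C' C hsq')
  exact Groth.Agent.S14952.result B' B A' A hsq D'

include hsq hsq' in
theorem module_finitePresentation [Module.Flat B D] [Module.Flat A' C']
    [Module.FinitePresentation B D] [Module.FinitePresentation A' C'] :
    Module.FinitePresentation B' D' := by
  haveI : Module.Flat B (B ⊗[B'] D') :=
    Module.Flat.of_linearEquiv (equivFst B' B A' A hsq D' D C' C hsq')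
  haveI : Module.Flat A' (A' ⊗[B'] D') :=
    Module.Flat.of_linearEquiv (equivSnd B' B A' A hsq D' D C' C hsq')
  haveI : Module.FinitePresentation B (B ⊗[B'] D') :=
    Module.FinitePresentation.of_equiv (equivFst B' B A' A hsq D' D C' C hsq').symm
  haveI : Module.FinitePresentation A' (A' ⊗[B'] D') :=
    Module.FinitePresentation.of_equiv (equivSnd B' B A' A hsq D' D C' C hsq').symm
  exact Groth.Agent.S14954.result B' B A' A hsq D'

include hsq hsq' in
theorem formallyUnramified [Algebra.FormallyUnramified B D] [Algebra.FormallyUnramified A' C'] :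
    Algebra.FormallyUnramified B' D' := by
  haveI := isPushout_fst B' B A' A hsq D' D C' C hsq'
  haveI := isPushout_snd B' B A' A hsq D' D C' C hsq'
  haveI : Subsingleton (D ⊗[D'] Ω[D'⁄B']) :=
    (KaehlerDifferential.tensorKaehlerEquiv B' B D' D).toEquiv.subsingleton
  haveI : Subsingleton (C' ⊗[D'] Ω[D'⁄B']) :=
    (KaehlerDifferential.tensorKaehlerEquiv B' A' D' C').toEquiv.subsingleton
  exact ⟨Groth.Agent.Lib.Helper22.Milnor.subsingleton_of_baseChange Ω[D'⁄B'] hsq'⟩

include hsq hsq' in
/-- Finite étale algebras glue over a Milnor square. -/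
theorem etale_of_finite [Module.Finite B D] [Algebra.Etale B D] [Module.Finite A' C']
    [Algebra.Etale A' C'] : Algebra.Etale B' D' := by
  haveI : Module.Flat B D := inferInstance
  haveI : Module.Flat A' C' := inferInstance
  haveI : Module.FinitePresentation B D :=
    Module.FinitePresentation.of_finite_of_finitePresentation B D
  haveI : Module.FinitePresentation A' C' :=
    Module.FinitePresentation.of_finite_of_finitePresentation A' C'
  haveI := module_finitePresentation B' B A' A hsq D' D C' C hsq'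
  haveI := flat B' B A' A hsq D' D C' C hsq'
  haveI := formallyUnramified B' B A' A hsq D' D C' C hsq'
  exact Algebra.Etale.of_formallyUnramified_of_flat

end Groth.Agent.Lib.Helper28.Milnor
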