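import Groth.Agent.Lib.Helper28.Milnor.RelGlue
import Groth.Agent.S2020

/-!
# Relative glueing over a Milnor square: finite presentation
-/

set_option autoImplicit false
set_option linter.unusedSectionVars false
universe u
open TensorProduct

namespace Groth.Agent.Lib.Helper28.Milnor

section Cancel

variable (R S A B : Type*) [CommRing R] [CommRing S] [CommRing A] [CommRing B]
  [Algebra R S] [Algebra R A] [Algebra R B] [Algebra A B] [Algebra S B]
  [IsScalarTower R A B] [IsScalarTower R S B] [Algebra.IsPushout R S A B]
  {M₁ M₂ : Type*} [AddCommGroup M₁] [Module R M₁] [Module A M₁] [IsScalarTower R A M₁]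
  [AddCommGroup M₂] [Module R M₂] [Module A M₂] [IsScalarTower R A M₂]

/-- Naturality of `Algebra.IsPushout.cancelBaseChange`. -/
lemma baseChange_cancel_symm (f : M₁ →ₗ[A] M₂) (z : S ⊗[R] M₁) :
    f.baseChange B ((Algebra.IsPushout.cancelBaseChange R S A B M₁).symm z) =
      (Algebra.IsPushout.cancelBaseChange R S A B M₂).symm
        ((f.restrictScalars R).lTensor S z) := by
  induction z using TensorProduct.induction_on with
  | zero => rw [map_zero, map_zero, map_zero, map_zero]
  | tmul s m =>
    rw [Algebra.IsPushout.cancelBaseChange_symm_tmul, LinearMap.baseChange_tmul,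
      LinearMap.lTensor_tmul, Algebra.IsPushout.cancelBaseChange_symm_tmul]
    rfl
  | add x y hx hy => rw [map_add, map_add, map_add, map_add, hx, hy]

/-- Injectivity after base change along `A → B = S ⊗ A` follows from injectivity after base
change along `R → S`. -/
lemma baseChange_injective_of_lTensor_injective (f : M₁ →ₗ[A] M₂)
    (h : Function.Injective ((f.restrictScalars R).lTensor S)) :
    Function.Injective (f.baseChange B) := by
  intro x y hxy
  obtain ⟨x', rfl⟩ := (Algebra.IsPushout.cancelBaseChange R S A B M₁).symm.surjective x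
  obtain ⟨y', rfl⟩ := (Algebra.IsPushout.cancelBaseChange R S A B M₁).symm.surjective y
  rw [baseChange_cancel_symm, baseChange_cancel_symm] at hxy
  rw [h ((Algebra.IsPushout.cancelBaseChange R S A B M₂).symm.injective hxy)]

end Cancel

section Ker

variable {R S F N' : Type*} [CommRing R] [CommRing S] [Algebra R S]
  [AddCommGroup F] [Module R F] [AddCommGroup N'] [Module R N']

/-- If `S ⊗ N'` is finitely presented, `F` is finite and `S ⊗ ker g → S ⊗ F` is injective, then
`S ⊗ ker g` is a finite `S`-module. -/
lemma finite_baseChange_ker [Module.Finite R F] [Module.FinitePresentation S (S ⊗[R] N')]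
    (g : F →ₗ[R] N') (hg : Function.Surjective g)
    (hinj : Function.Injective ((LinearMap.ker g).subtype.baseChange S)) :
    Module.Finite S (S ⊗[R] ↥(LinearMap.ker g)) := by
  have hs : Function.Surjective (g.baseChange S) := fun z =>
    LinearMap.lTensor_surjective S hg z
  have hfg : (LinearMap.ker (g.baseChange S)).FG := Module.FinitePresentation.fg_ker _ hs
  have hex : Function.Exact ((LinearMap.ker g).subtype.lTensor S) (g.lTensor S) :=
    lTensor_exact S (LinearMap.exact_subtype_ker_map g) hg
  have hrange : LinearMap.range ((LinearMap.ker g).subtype.baseChange S) =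
      LinearMap.ker (g.baseChange S) := by
    ext z
    rw [LinearMap.mem_ker]
    exact (hex z).symm
  haveI : Module.Finite S ↥(LinearMap.range ((LinearMap.ker g).subtype.baseChange S)) := by
    rw [hrange]
    exact Module.Finite.of_fg hfg
  exact Module.Finite.equiv (LinearEquiv.ofInjective _ hinj).symm

end Ker

section Rel

variable (B' B A' A : Type u) [CommRing B'] [CommRing B] [CommRing A'] [CommRing A]
  [Algebra B' B] [Algebra B' A'] [Algebra B A] [Algebra A' A] [Algebra B' A]
  [IsScalarTower B' B A] [IsScalarTower B' A' A]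
  (hsq : EtMil.IsFibreSquare B' B A' A)
  (D' D C' : Type u) [CommRing D'] [CommRing D] [CommRing C']
  [Algebra B' D'] [Algebra B D] [Algebra A' C']
  [Algebra D' D] [Algebra B' D] [IsScalarTower B' B D] [IsScalarTower B' D' D]
  [Algebra.IsPushout B' B D' D]
  [Algebra D' C'] [Algebra B' C'] [IsScalarTower B' A' C'] [IsScalarTower B' D' C']
  [Algebra.IsPushout B' A' D' C']

include hsq in
/-- A `D'`-module whose base changes to `D` and `C'` vanish is zero. -/
theorem rel_subsingleton (L' : Type u) [AddCommGroup L'] [Module D' L']
    [Subsingleton (D ⊗[D'] L')] [Subsingleton (C' ⊗[D'] L')] : Subsingleton L' := by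
  letI : Module B' L' := Module.compHom L' (algebraMap B' D')
  haveI : IsScalarTower B' D' L' := IsScalarTower.of_algebraMap_smul fun _ _ => rfl
  haveI : Subsingleton (B ⊗[B'] L') :=
    (Algebra.IsPushout.cancelBaseChange B' B D' D L').symm.toEquiv.subsingleton
  haveI : Subsingleton (A' ⊗[B'] L') :=
    (Algebra.IsPushout.cancelBaseChange B' A' D' C' L').symm.toEquiv.subsingleton
  exact Groth.Agent.Lib.Helper22.Milnor.subsingleton_of_baseChange L' hsq

include hsq in
/-- A `D'`-module whose base changes to `D` and `C'` are finite is finite. -/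
theorem rel_finite (L' : Type u) [AddCommGroup L'] [Module D' L']
    [Module.Finite D (D ⊗[D'] L')] [Module.Finite C' (C' ⊗[D'] L')] : Module.Finite D' L' := by
  obtain ⟨N₁, hN₁, hN₁'⟩ := Groth.Agent.Lib.Helper22.Milnor.exists_fg_baseChange_eq_top D' D L'
  obtain ⟨N₂, hN₂, hN₂'⟩ := Groth.Agent.Lib.Helper22.Milnor.exists_fg_baseChange_eq_top D' C' L'
  have h1 : (N₁ ⊔ N₂).baseChange D = ⊤ :=
    top_le_iff.mp (hN₁' ▸ Submodule.baseChange_mono D le_sup_left)
  have h2 : (N₁ ⊔ N₂).baseChange C' = ⊤ :=
    top_le_iff.mp (hN₂' ▸ Submodule.baseChange_mono C' le_sup_right)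
  haveI := Groth.Agent.Lib.Helper22.Milnor.subsingleton_tensor_quotient_of_baseChange_eq_top
    D' D L' _ h1
  haveI := Groth.Agent.Lib.Helper22.Milnor.subsingleton_tensor_quotient_of_baseChange_eq_top
    D' C' L' _ h2
  have hQ : Subsingleton (L' ⧸ (N₁ ⊔ N₂)) := rel_subsingleton B' B A' A hsq D' D C' _
  rw [Submodule.Quotient.subsingleton_iff] at hQ
  rw [Module.finite_def, ← hQ]
  exact hN₁.sup hN₂

include hsq in
/-- **Finite presentation descends** for `D'`-modules flat over `B'`. -/
theorem rel_finitePresentation (N' : Type u) [AddCommGroup N'] [Module D' N'] [Module B' N']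
    [IsScalarTower B' D' N'] [Module.Flat B' N'] [Module.Finite D' N']
    [Module.FinitePresentation D (D ⊗[D'] N')] [Module.FinitePresentation C' (C' ⊗[D'] N')] :
    Module.FinitePresentation D' N' := by
  obtain ⟨n, g, hg⟩ := Module.Finite.exists_fin' D' N'
  refine Module.finitePresentation_of_free_of_surjective g hg ?_
  have hexact : Function.Exact ((LinearMap.ker g).subtype.restrictScalars B')
      (g.restrictScalars B') := LinearMap.exact_subtype_ker_map g
  have hinj : ∀ (T : Type u) [CommRing T] [Algebra B' T], Function.Injective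
      (((LinearMap.ker g).subtype.restrictScalars B').lTensor T) := fun T _ _ =>
    LinearMap.lTensor_injective_of_exact_of_flat (g.restrictScalars B') hg
      ((LinearMap.ker g).subtype.restrictScalars B')
      (fun x y h => Submodule.subtype_injective _ h) hexact T
  haveI : Module.Finite D (D ⊗[D'] ↥(LinearMap.ker g)) :=
    finite_baseChange_ker g hg
      (baseChange_injective_of_lTensor_injective B' B D' D _ (hinj B))
  haveI : Module.Finite C' (C' ⊗[D'] ↥(LinearMap.ker g)) :=
    finite_baseChange_ker g hg
      (baseChange_injective_of_lTensor_injective B' A' D' C' _ (hinj A'))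
  rw [← Module.Finite.iff_fg]
  exact rel_finite B' B A' A hsq D' D C' _

end Rel

end Groth.Agent.Lib.Helper28.Milnor
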