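import Groth.Agent.Lib.Helper28.Milnor.RelFP

/-!
# Relative glueing over a Milnor square: finite presentation of the glued module
-/

set_option autoImplicit false
set_option linter.unusedSectionVars false
universe u
open TensorProduct

namespace Groth.Agent.Lib.Helper28.Milnor

section Main

variable (B' B A' A : Type u) [CommRing B'] [CommRing B] [CommRing A'] [CommRing A]
  [Algebra B' B] [Algebra B' A'] [Algebra B A] [Algebra A' A] [Algebra B' A]
  [IsScalarTower B' B A] [IsScalarTower B' A' A]
  (hsq : EtMil.IsFibreSquare B' B A' A)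
  (D' D C' C : Type u) [CommRing D'] [CommRing D] [CommRing C'] [CommRing C]
  [Algebra B' D'] [Algebra B D] [Algebra A' C'] [Algebra A C]
  [Algebra D' D] [Algebra B' D] [IsScalarTower B' B D] [IsScalarTower B' D' D]
  [Algebra.IsPushout B' B D' D]
  [Algebra D' C'] [Algebra B' C'] [IsScalarTower B' A' C'] [IsScalarTower B' D' C']
  [Algebra.IsPushout B' A' D' C']
  [Algebra D' C] [Algebra B' C] [IsScalarTower B' A C] [IsScalarTower B' D' C]
  [Algebra.IsPushout B' A D' C]
  [Algebra D C] [IsScalarTower D' D C] [Algebra B C] [IsScalarTower B A C] [IsScalarTower B D C]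
  [Algebra C' C] [IsScalarTower D' C' C] [Algebra A' C] [IsScalarTower A' A C]
  [IsScalarTower A' C' C]

include B' D' in
/-- `C = A ⊗_B D`. -/
theorem isPushout_right : Algebra.IsPushout B A D C := by
  haveI : IsScalarTower B' D C := .of_algebraMap_eq fun x => by
    rw [IsScalarTower.algebraMap_apply B' D' C, IsScalarTower.algebraMap_apply D' D C,
      ← IsScalarTower.algebraMap_apply B' D' D]
  exact (Algebra.IsPushout.comp_iff B' B D' (S' := D) (T := A) (T' := C)).mp inferInstance

include B' D' in
/-- `C = A ⊗_{A'} C'`. -/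
theorem isPushout_right' : Algebra.IsPushout A' A C' C := by
  haveI : IsScalarTower B' C' C := .of_algebraMap_eq fun x => by
    rw [IsScalarTower.algebraMap_apply B' D' C, IsScalarTower.algebraMap_apply D' C' C,
      ← IsScalarTower.algebraMap_apply B' D' C']
  exact (Algebra.IsPushout.comp_iff B' A' D' (S' := C') (T := A) (T' := C)).mp inferInstance

variable {N M' : Type u} [AddCommGroup N] [Module D N] [AddCommGroup M'] [Module C' M']
  [Module B N] [IsScalarTower B D N] [Module A' M'] [IsScalarTower A' C' M']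

/-- The glueing datum over the base square induced by one over `D, C', C`. -/
noncomputable def baseGlue (φ : C ⊗[D] N ≃ₗ[C] C ⊗[C'] M') : A ⊗[B] N ≃ₗ[A] A ⊗[A'] M' :=
  haveI := isPushout_right B' B A D' D C
  haveI := isPushout_right' B' A' A D' C' C
  (Algebra.IsPushout.cancelBaseChange B A D C N).symm ≪≫ₗ φ.restrictScalars A ≪≫ₗ
    Algebra.IsPushout.cancelBaseChange A' A C' C M'

lemma baseGlue_iff (φ : C ⊗[D] N ≃ₗ[C] C ⊗[C'] M') (n : N) (m' : M') :
    baseGlue B' B A' A D' D C' C φ ((1 : A) ⊗ₜ[B] n) = (1 : A) ⊗ₜ[A'] m' ↔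
      φ ((1 : C) ⊗ₜ[D] n) = (1 : C) ⊗ₜ[C'] m' := by
  haveI := isPushout_right B' B A D' D C
  haveI := isPushout_right' B' A' A D' C' C
  unfold baseGlue
  rw [LinearEquiv.trans_apply, LinearEquiv.trans_apply,
    Algebra.IsPushout.cancelBaseChange_symm_tmul, map_one, LinearEquiv.restrictScalars_apply,
    ← LinearEquiv.eq_symm_apply, Algebra.IsPushout.cancelBaseChange_symm_tmul, map_one]

section Aux

variable [Module D' N] [IsScalarTower D' D N] [Module D' M'] [IsScalarTower D' C' M']
  [Module B' N] [IsScalarTower B' D' N] [IsScalarTower B' B N]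
  [Module B' M'] [IsScalarTower B' D' M'] [IsScalarTower B' A' M']

/-- The glued modules over `B'` and over `D'` have the same underlying set. -/
noncomputable def glueEquiv (φ : C ⊗[D] N ≃ₗ[C] C ⊗[C'] M') :
    ↥(EtMil.glue B' (baseGlue B' B A' A D' D C' C φ)) ≃ₗ[B'] ↥(EtMil.glue D' φ) where
  toFun x := ⟨x.1, (baseGlue_iff B' B A' A D' D C' C φ x.1.1 x.1.2).mp x.2⟩
  invFun x := ⟨x.1, (baseGlue_iff B' B A' A D' D C' C φ x.1.1 x.1.2).mpr x.2⟩
  left_inv _ := rfl
  right_inv _ := rfl
  map_add' _ _ := rfl
  map_smul' _ _ := rfl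

include hsq in
theorem relGlue_fp_aux (φ : C ⊗[D] N ≃ₗ[C] C ⊗[C'] M')
    [Module.FinitePresentation D N] [Module.Flat B N] [Module.FinitePresentation C' M']
    [Module.Flat A' M'] : Module.FinitePresentation D' ↥(EtMil.glue D' φ) := by
  obtain ⟨φ₀, hφ₀⟩ : ∃ φ₀, φ₀ = baseGlue B' B A' A D' D C' C φ := ⟨_, rfl⟩
  obtain ⟨ε, hε⟩ : ∃ ε : ↥(EtMil.glue B' (baseGlue B' B A' A D' D C' C φ)) ≃ₗ[B']
      ↥(EtMil.glue D' φ), ε = glueEquiv B' B A' A D' D C' C φ := ⟨_, rfl⟩
  -- flatness over `B'`
  haveI hflat₀ : Module.Flat B' ↥(EtMil.glue B' (baseGlue B' B A' A D' D C' C φ)) :=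
    (Groth.Agent.S2020.result B' B A' A hsq).1 N M' _ inferInstance inferInstance
  haveI : Module.Flat B' ↥(EtMil.glue D' φ) := Module.Flat.of_linearEquiv ε.symm
  -- finiteness over `D'`
  haveI : Module.Finite D N := inferInstance
  haveI : Module.Finite C' M' := inferInstance
  haveI : Module.Finite D' ↥(EtMil.glue D' φ) := relGlue_finite B' B A' A hsq D' D C' C φ
  -- the base changes
  obtain ⟨hb1, hb2⟩ := Groth.Agent.S2019.result B' B A' A hsq N M'
    (baseGlue B' B A' A D' D C' C φ)
  have key1 : ∀ z : B ⊗[B'] ↥(EtMil.glue B' (baseGlue B' B A' A D' D C' C φ)),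
      LinearMap.liftBaseChange D (EtMil.glueFst D' φ)
        ((Algebra.IsPushout.cancelBaseChange B' B D' D _).symm (ε.toLinearMap.lTensor B z)) =
      LinearMap.liftBaseChange B (EtMil.glueFst B' (baseGlue B' B A' A D' D C' C φ)) z := by
    intro z
    induction z using TensorProduct.induction_on with
    | zero => rw [map_zero, map_zero, map_zero, map_zero]
    | tmul b x =>
      rw [LinearMap.lTensor_tmul, Algebra.IsPushout.cancelBaseChange_symm_tmul,
        LinearMap.liftBaseChange_tmul, LinearMap.liftBaseChange_tmul, hε]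
      exact IsScalarTower.algebraMap_smul D b _
    | add x y hx hy => rw [map_add, map_add, map_add, map_add, hx, hy]
  have key2 : ∀ z : A' ⊗[B'] ↥(EtMil.glue B' (baseGlue B' B A' A D' D C' C φ)),
      LinearMap.liftBaseChange C' (EtMil.glueSnd D' φ)
        ((Algebra.IsPushout.cancelBaseChange B' A' D' C' _).symm (ε.toLinearMap.lTensor A' z)) =
      LinearMap.liftBaseChange A' (EtMil.glueSnd B' (baseGlue B' B A' A D' D C' C φ)) z := by
    intro z
    induction z using TensorProduct.induction_on with
    | zero => rw [map_zero, map_zero, map_zero, map_zero]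
    | tmul b x =>
      rw [LinearMap.lTensor_tmul, Algebra.IsPushout.cancelBaseChange_symm_tmul,
        LinearMap.liftBaseChange_tmul, LinearMap.liftBaseChange_tmul, hε]
      exact IsScalarTower.algebraMap_smul C' b _
    | add x y hx hy => rw [map_add, map_add, map_add, map_add, hx, hy]
  have bij1 : Function.Bijective (LinearMap.liftBaseChange D (EtMil.glueFst D' φ)) := by
    have hcomp : (LinearMap.liftBaseChange D (EtMil.glueFst D' φ)) ∘
        ((Algebra.IsPushout.cancelBaseChange B' B D' D _).symm ∘
          (TensorProduct.congr (LinearEquiv.refl B' B) ε)) =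
        LinearMap.liftBaseChange B (EtMil.glueFst B' (baseGlue B' B A' A D' D C' C φ)) := by
      funext z
      exact key1 z
    have hb : Function.Bijective ((Algebra.IsPushout.cancelBaseChange B' B D' D _).symm ∘
        (TensorProduct.congr (LinearEquiv.refl B' B) ε)) :=
      (LinearEquiv.bijective _).comp (LinearEquiv.bijective _)
    rw [← hcomp] at hb1
    exact (Function.Bijective.of_comp_iff _ hb).mp hb1
  have bij2 : Function.Bijective (LinearMap.liftBaseChange C' (EtMil.glueSnd D' φ)) := by
    have hcomp : (LinearMap.liftBaseChange C' (EtMil.glueSnd D' φ)) ∘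
        ((Algebra.IsPushout.cancelBaseChange B' A' D' C' _).symm ∘
          (TensorProduct.congr (LinearEquiv.refl B' A') ε)) =
        LinearMap.liftBaseChange A' (EtMil.glueSnd B' (baseGlue B' B A' A D' D C' C φ)) := by
      funext z
      exact key2 z
    have hb : Function.Bijective ((Algebra.IsPushout.cancelBaseChange B' A' D' C' _).symm ∘
        (TensorProduct.congr (LinearEquiv.refl B' A') ε)) :=
      (LinearEquiv.bijective _).comp (LinearEquiv.bijective _)
    rw [← hcomp] at hb2
    exact (Function.Bijective.of_comp_iff _ hb).mp hb2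
  haveI : Module.FinitePresentation D (D ⊗[D'] ↥(EtMil.glue D' φ)) :=
    Module.FinitePresentation.of_equiv (LinearEquiv.ofBijective _ bij1).symm
  haveI : Module.FinitePresentation C' (C' ⊗[D'] ↥(EtMil.glue D' φ)) :=
    Module.FinitePresentation.of_equiv (LinearEquiv.ofBijective _ bij2).symm
  exact rel_finitePresentation B' B A' A hsq D' D C' _

end Aux

end Main

end Groth.Agent.Lib.Helper28.Milnor
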