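import Groth.Agent.Lib.Helper28.Milnor.Rel
import Groth.Agent.S2021
import Groth.Agent.S6916

/-!
# Relative glueing over a Milnor square: finiteness
-/

set_option autoImplicit false
set_option linter.unusedSectionVars false
universe u
open TensorProduct

namespace Groth.Agent.Lib.Helper28.Milnor

section FibProd

variable (D C' C : Type u) [CommRing D] [CommRing C'] [CommRing C] [Algebra D C] [Algebra C' C]

/-- The fibre product ring `D ×_C C'` as a subring of `D × C'`. -/
abbrev FibProd : Subring (D × C') :=
  RingHom.eqLocus ((algebraMap D C).comp (RingHom.fst D C'))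
    ((algebraMap C' C).comp (RingHom.snd D C'))

/-- first projection -/
@[reducible] def FibProd.algFst : Algebra (FibProd D C' C) D :=
  ((RingHom.fst D C').comp (FibProd D C' C).subtype).toAlgebra

/-- second projection -/
@[reducible] def FibProd.algSnd : Algebra (FibProd D C' C) C' :=
  ((RingHom.snd D C').comp (FibProd D C' C).subtype).toAlgebra

/-- structure map to the common quotient -/
@[reducible] def FibProd.algBase : Algebra (FibProd D C' C) C :=
  ((algebraMap D C).comp ((RingHom.fst D C').comp (FibProd D C' C).subtype)).toAlgebra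

attribute [local instance] FibProd.algFst FibProd.algSnd FibProd.algBase

instance FibProd.tower₁ : IsScalarTower (FibProd D C' C) D C := .of_algebraMap_eq' rfl

instance FibProd.tower₂ : IsScalarTower (FibProd D C' C) C' C :=
  .of_algebraMap_eq' (by ext x; exact x.2)

theorem FibProd.isFibreSquare (h : Function.Surjective (algebraMap C' C)) :
    EtMil.IsFibreSquare (FibProd D C' C) D C' C :=
  ⟨h, fun d c' hdc => ⟨⟨(d, c'), hdc⟩, ⟨rfl, rfl⟩,
    fun y hy => Subtype.ext (Prod.ext hy.1 hy.2)⟩⟩

end FibProd

section Change

variable (D' D'' D C' C : Type u) [CommRing D'] [CommRing D''] [CommRing D] [CommRing C']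
  [CommRing C]
  [Algebra D'' D] [Algebra D'' C'] [Algebra D C] [Algebra C' C] [Algebra D'' C]
  [IsScalarTower D'' D C] [IsScalarTower D'' C' C]
  [Algebra D' D] [Algebra D' C'] [Algebra D' C] [IsScalarTower D' D C] [IsScalarTower D' C' C]
  [Algebra D' D''] [IsScalarTower D' D'' D] [IsScalarTower D' D'' C']
  {N M' : Type u} [AddCommGroup N] [Module D N] [Module D' N] [IsScalarTower D' D N]
  [Module D'' N] [IsScalarTower D'' D N]
  [AddCommGroup M'] [Module C' M'] [Module D' M'] [IsScalarTower D' C' M']
  [Module D'' M'] [IsScalarTower D'' C' M']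

/-- Finiteness of the glued module is insensitive to replacing the base by a ring surjecting
onto it. -/
theorem glue_finite_of_surjective (φ : C ⊗[D] N ≃ₗ[C] C ⊗[C'] M')
    (hψ : Function.Surjective (algebraMap D' D''))
    (h : Module.Finite D'' ↥(EtMil.glue D'' φ)) : Module.Finite D' ↥(EtMil.glue D' φ) := by
  haveI : IsScalarTower D' D'' N := IsScalarTower.of_algebraMap_smul fun r x => by
    rw [← IsScalarTower.algebraMap_smul D (algebraMap D' D'' r) x,
      ← IsScalarTower.algebraMap_apply, IsScalarTower.algebraMap_smul]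
  haveI : IsScalarTower D' D'' M' := IsScalarTower.of_algebraMap_smul fun r x => by
    rw [← IsScalarTower.algebraMap_smul C' (algebraMap D' D'' r) x,
      ← IsScalarTower.algebraMap_apply, IsScalarTower.algebraMap_smul]
  have e : EtMil.glue D' φ = (EtMil.glue D'' φ).restrictScalars D' :=
    Submodule.ext fun x => Iff.rfl
  rw [Module.Finite.iff_fg] at h ⊢
  obtain ⟨S, hS⟩ := h
  refine ⟨S, ?_⟩
  rw [e, ← hS, Submodule.restrictScalars_span D' D'' hψ]

end Change

section Main

variable (B' B A' A : Type u) [CommRing B'] [CommRing B] [CommRing A'] [CommRing A]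
  [Algebra B' B] [Algebra B' A'] [Algebra B A] [Algebra A' A] [Algebra B' A]
  [IsScalarTower B' B A] [IsScalarTower B' A' A]
  (hsq : EtMil.IsFibreSquare B' B A' A)
  (D' D C' C : Type u) [CommRing D'] [CommRing D] [CommRing C'] [CommRing C]
  [Algebra B' D'] [Algebra B D] [Algebra A' C'] [Algebra A C]
  [Algebra D' D] [Algebra B' D] [IsScalarTower B' B D] [IsScalarTower B' D' D]
  [Algebra.IsPushout B' B D' D]
  [Algebra D' C'] [Algebra B' C'] [IsScalarTower B' A' C'] [IsScalarTower B' D' C']
  [Algebra.IsPushout B' A' D' C']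
  [Algebra D' C] [Algebra B' C] [IsScalarTower B' A C] [IsScalarTower B' D' C]
  [Algebra.IsPushout B' A D' C]
  [Algebra D C] [IsScalarTower D' D C] [Algebra B C] [IsScalarTower B A C] [IsScalarTower B D C]
  [Algebra C' C] [IsScalarTower D' C' C] [Algebra A' C] [IsScalarTower A' A C]
  [IsScalarTower A' C' C]

lemma equiv_rTensor_fst (x : B ⊗[B'] D') :
    Algebra.IsPushout.equiv B' A D' C
      ((IsScalarTower.toAlgHom B' B A).toLinearMap.rTensor D' x) =
      algebraMap D C (Algebra.IsPushout.equiv B' B D' D x) := by
  induction x using TensorProduct.induction_on with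
  | zero => rw [map_zero, map_zero, map_zero, map_zero]
  | tmul b d' =>
    rw [LinearMap.rTensor_tmul, Algebra.IsPushout.equiv_tmul, Algebra.IsPushout.equiv_tmul,
      map_mul]
    change algebraMap A C (algebraMap B A b) * _ = _
    rw [← IsScalarTower.algebraMap_apply B A C, ← IsScalarTower.algebraMap_apply B D C,
      ← IsScalarTower.algebraMap_apply D' D C]
  | add x y hx hy => rw [map_add, map_add, map_add, map_add, hx, hy]

lemma equiv_rTensor_snd (y : A' ⊗[B'] D') :
    Algebra.IsPushout.equiv B' A D' C
      ((IsScalarTower.toAlgHom B' A' A).toLinearMap.rTensor D' y) =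
      algebraMap C' C (Algebra.IsPushout.equiv B' A' D' C' y) := by
  induction y using TensorProduct.induction_on with
  | zero => rw [map_zero, map_zero, map_zero, map_zero]
  | tmul b d' =>
    rw [LinearMap.rTensor_tmul, Algebra.IsPushout.equiv_tmul, Algebra.IsPushout.equiv_tmul,
      map_mul]
    change algebraMap A C (algebraMap A' A b) * _ = _
    rw [← IsScalarTower.algebraMap_apply A' A C, ← IsScalarTower.algebraMap_apply A' C' C,
      ← IsScalarTower.algebraMap_apply D' C' C]
  | add x y hx hy => rw [map_add, map_add, map_add, map_add, hx, hy]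

include hsq in
/-- `D' → D ×_C C'` is surjective. -/
theorem exists_of_fibProd (d : D) (c' : C') (h : algebraMap D C d = algebraMap C' C c') :
    ∃ d' : D', algebraMap D' D d' = d ∧ algebraMap D' C' d' = c' := by
  obtain ⟨l, hl1, hl2⟩ := Groth.Agent.S6916.result B' B A' A hsq D'
    ((Algebra.IsPushout.equiv B' B D' D).symm d) ((Algebra.IsPushout.equiv B' A' D' C').symm c')
    (by
      apply (Algebra.IsPushout.equiv B' A D' C).injective
      rw [equiv_rTensor_fst (B' := B') (B := B) (A := A) (D' := D') (D := D) (C := C),
        equiv_rTensor_snd (B' := B') (A' := A') (A := A) (D' := D') (C' := C') (C := C),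
        AlgEquiv.apply_symm_apply, AlgEquiv.apply_symm_apply, h])
  refine ⟨l, ?_, ?_⟩
  · have := congrArg (Algebra.IsPushout.equiv B' B D' D) hl1
    rwa [AlgEquiv.apply_symm_apply, Algebra.IsPushout.equiv_tmul, map_one, one_mul] at this
  · have := congrArg (Algebra.IsPushout.equiv B' A' D' C') hl2
    rwa [AlgEquiv.apply_symm_apply, Algebra.IsPushout.equiv_tmul, map_one, one_mul] at this

include hsq in
/-- `C' → C` is surjective. -/
theorem surjective_algebraMap_base (_hP : Algebra.IsPushout B' A D' C) :
    Function.Surjective (algebraMap C' C) := by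
  intro c
  obtain ⟨z, rfl⟩ := (Algebra.IsPushout.equiv B' A D' C).surjective c
  induction z using TensorProduct.induction_on with
  | zero => exact ⟨0, by rw [map_zero, map_zero]⟩
  | tmul a d' =>
    obtain ⟨a', rfl⟩ := hsq.1 a
    refine ⟨algebraMap A' C' a' * algebraMap D' C' d', ?_⟩
    rw [map_mul, Algebra.IsPushout.equiv_tmul, ← IsScalarTower.algebraMap_apply A' C' C,
      ← IsScalarTower.algebraMap_apply D' C' C, ← IsScalarTower.algebraMap_apply A' A C]
  | add x y hx hy =>
    obtain ⟨x', hx'⟩ := hx
    obtain ⟨y', hy'⟩ := hy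
    exact ⟨x' + y', by rw [map_add, map_add, hx', hy']⟩

attribute [local instance] FibProd.algFst FibProd.algSnd FibProd.algBase

include hsq in
/-- **Relative glueing preserves finiteness.** -/
theorem relGlue_finite {N M' : Type u} [AddCommGroup N] [Module D N] [Module D' N]
    [IsScalarTower D' D N] [AddCommGroup M'] [Module C' M'] [Module D' M'] [IsScalarTower D' C' M']
    (φ : C ⊗[D] N ≃ₗ[C] C ⊗[C'] M') [Module.Finite D N] [Module.Finite C' M'] :
    Module.Finite D' ↥(EtMil.glue D' φ) := by
  have hsq'' := FibProd.isFibreSquare D C' C (surjective_algebraMap_base B' B A' A hsq D' C' C inferInstance)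
  letI : Module (FibProd D C' C) N := Module.compHom N (algebraMap (FibProd D C' C) D)
  haveI : IsScalarTower (FibProd D C' C) D N := IsScalarTower.of_algebraMap_smul fun r x => rfl
  letI : Module (FibProd D C' C) M' := Module.compHom M' (algebraMap (FibProd D C' C) C')
  haveI : IsScalarTower (FibProd D C' C) C' M' := IsScalarTower.of_algebraMap_smul fun r x => rfl
  have hfin : Module.Finite (FibProd D C' C) ↥(EtMil.glue (FibProd D C' C) φ) :=
    (Groth.Agent.S2021.result (FibProd D C' C) D C' C hsq'' N M' φ).1 inferInstance inferInstance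
  letI : Algebra D' (FibProd D C' C) :=
    (RingHom.codRestrict ((algebraMap D' D).prod (algebraMap D' C')) (FibProd D C' C)
      (fun d' => by
        change algebraMap D C (algebraMap D' D d') = algebraMap C' C (algebraMap D' C' d')
        rw [← IsScalarTower.algebraMap_apply, ← IsScalarTower.algebraMap_apply])).toAlgebra
  haveI : IsScalarTower D' (FibProd D C' C) D := .of_algebraMap_eq' rfl
  haveI : IsScalarTower D' (FibProd D C' C) C' := .of_algebraMap_eq' rfl
  refine glue_finite_of_surjective D' (FibProd D C' C) D C' C φ ?_ hfin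
  rintro ⟨⟨d, c'⟩, hdc⟩
  obtain ⟨d', h1, h2⟩ := exists_of_fibProd B' B A' A hsq D' D C' C d c' hdc
  exact ⟨d', Subtype.ext (Prod.ext h1 h2)⟩

end Main

end Groth.Agent.Lib.Helper28.Milnor
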