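import Groth.Agent.Lib.Helper28.Milnor.FP

/-!
# Relative Milnor squares: smoothness and étaleness descend
-/

set_option autoImplicit false
set_option linter.unusedSectionVars false
universe u
open TensorProduct

namespace Groth.Agent.Lib.Helper28.Milnor

/-- Smoothness of a base change persists after further base change. -/
theorem smooth_tensor_of_tower (R S E D : Type*) [CommRing R] [CommRing S] [CommRing E]
    [CommRing D] [Algebra R S] [Algebra S E] [Algebra R E] [IsScalarTower R S E] [Algebra R D]
    [Algebra.Smooth S (S ⊗[R] D)] : Algebra.Smooth E (E ⊗[R] D) :=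
  Algebra.Smooth.of_equiv (Algebra.TensorProduct.cancelBaseChange R S E E D)

/-- Smoothness of a base change to a field can be checked after a non-trivial extension. -/
theorem smooth_of_smooth_extension (R K E D : Type*) [CommRing R] [Field K] [CommRing E]
    [CommRing D] [Algebra R K] [Algebra K E] [Algebra R E] [IsScalarTower R K E] [Algebra R D]
    [Nontrivial E] [Algebra.Smooth E (E ⊗[R] D)] : Algebra.Smooth K (K ⊗[R] D) := by
  haveI : Algebra.Smooth E (E ⊗[K] (K ⊗[R] D)) :=
    Algebra.Smooth.of_equiv (Algebra.TensorProduct.cancelBaseChange R K E E D).symm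
  exact Algebra.Smooth.of_smooth_tensorProduct_of_faithfullyFlat E

section Main

variable (B' B A' A : Type u) [CommRing B'] [CommRing B] [CommRing A'] [CommRing A]
  [Algebra B' B] [Algebra B' A'] [Algebra B A] [Algebra A' A] [Algebra B' A]
  [IsScalarTower B' B A] [IsScalarTower B' A' A]
  (hsq : EtMil.IsFibreSquare B' B A' A)

include hsq in
/-- Smoothness of the fibres over a Milnor square follows from smoothness over the two corners. -/
theorem smooth_fibre (D' : Type u) [CommRing D'] [Algebra B' D']
    [Algebra.Smooth B (B ⊗[B'] D')] [Algebra.Smooth A' (A' ⊗[B'] D')]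
    (K : Type u) [Field K] [Algebra B' K] : Algebra.Smooth K (K ⊗[B'] D') := by
  by_cases h1 : Nontrivial (B ⊗[B'] K)
  · letI : Algebra K (B ⊗[B'] K) := Algebra.TensorProduct.rightAlgebra
    haveI : IsScalarTower B' K (B ⊗[B'] K) := Algebra.TensorProduct.right_isScalarTower
    haveI : Algebra.Smooth (B ⊗[B'] K) ((B ⊗[B'] K) ⊗[B'] D') :=
      smooth_tensor_of_tower B' B (B ⊗[B'] K) D'
    exact smooth_of_smooth_extension B' K (B ⊗[B'] K) D'
  · by_cases h2 : Nontrivial (A' ⊗[B'] K)
    · letI : Algebra K (A' ⊗[B'] K) := Algebra.TensorProduct.rightAlgebra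
      haveI : IsScalarTower B' K (A' ⊗[B'] K) := Algebra.TensorProduct.right_isScalarTower
      haveI : Algebra.Smooth (A' ⊗[B'] K) ((A' ⊗[B'] K) ⊗[B'] D') :=
        smooth_tensor_of_tower B' A' (A' ⊗[B'] K) D'
      exact smooth_of_smooth_extension B' K (A' ⊗[B'] K) D'
    · exfalso
      haveI : Subsingleton (B ⊗[B'] K) := not_nontrivial_iff_subsingleton.mp h1
      haveI : Subsingleton (A' ⊗[B'] K) := not_nontrivial_iff_subsingleton.mp h2
      haveI : Subsingleton K := Groth.Agent.Lib.Helper22.Milnor.subsingleton_of_baseChange K hsq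
      exact not_subsingleton K this

variable (D' D C' C : Type u) [CommRing D'] [CommRing D] [CommRing C'] [CommRing C]
  [Algebra D' D] [Algebra D' C'] [Algebra D C] [Algebra C' C] [Algebra D' C]
  [IsScalarTower D' D C] [IsScalarTower D' C' C]
  (hsq' : EtMil.IsFibreSquare D' D C' C)
  [Algebra B' D'] [Algebra B D] [Algebra A' C'] [Algebra A C]
  [Algebra B' D] [IsScalarTower B' B D] [IsScalarTower B' D' D]
  [Algebra B' C'] [IsScalarTower B' A' C'] [IsScalarTower B' D' C']
  [Algebra B C] [IsScalarTower B A C] [IsScalarTower B D C]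
  [Algebra A' C] [IsScalarTower A' A C] [IsScalarTower A' C' C]
  [Algebra.IsPushout B D A C] [Algebra.IsPushout A' C' A C]

include hsq hsq' in
/-- Smoothness glues over a Milnor square. -/
theorem smooth [Algebra.Smooth B D] [Algebra.Smooth A' C'] : Algebra.Smooth B' D' := by
  haveI : Module.Flat B D := inferInstance
  haveI : Module.Flat A' C' := inferInstance
  haveI : Algebra.FinitePresentation B D := inferInstance
  haveI : Algebra.FinitePresentation A' C' := inferInstance
  haveI := flat B' B A' A hsq D' D C' C hsq'
  haveI := finitePresentation B' B A' A hsq D' D C' C hsq'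
  haveI := isPushout_fst B' B A' A hsq D' D C' C hsq'
  haveI := isPushout_snd B' B A' A hsq D' D C' C hsq'
  haveI : Algebra.Smooth B (B ⊗[B'] D') :=
    Algebra.Smooth.of_equiv (Algebra.IsPushout.equiv B' B D' D).symm
  haveI : Algebra.Smooth A' (A' ⊗[B'] D') :=
    Algebra.Smooth.of_equiv (Algebra.IsPushout.equiv B' A' D' C').symm
  refine Algebra.Smooth.of_formallySmooth_fiber fun I _ => ?_
  haveI := smooth_fibre B' B A' A hsq D' I.ResidueField
  exact inferInstance

include hsq hsq' in
/-- Étaleness glues over a Milnor square. -/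
theorem etale [Algebra.Etale B D] [Algebra.Etale A' C'] : Algebra.Etale B' D' := by
  haveI : Algebra.Smooth B D := inferInstance
  haveI : Algebra.Smooth A' C' := inferInstance
  haveI : Algebra.FormallyUnramified B D := inferInstance
  haveI : Algebra.FormallyUnramified A' C' := inferInstance
  rw [Algebra.Etale.iff_formallyUnramified_and_smooth]
  exact ⟨formallyUnramified B' B A' A hsq D' D C' C hsq', smooth B' B A' A hsq D' D C' C hsq'⟩

end Main

end Groth.Agent.Lib.Helper28.Milnor
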